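import Cfsg.Agent.LyG2.Rep.Words
import Cfsg.Agent.LyG2.Upper
import Cfsg.Prelude.Def_Spor_Ly

/-! Every generator of `Ly` as a word in `a, b, c, d, z`. -/

set_option autoImplicit false
set_option maxRecDepth 100000

namespace CfsgLib.LyG2.Rep

open CfsgLib.CosetEnum Cfsg.Spor

/-- A generator as a word. -/
def genWord : Ly.Gen → List ℕ
  | .a => [0]
  | .b => [2]
  | .c => [4]
  | .d => [6]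
  | .z => [8]
  | .e => [3, 3, 1, 5, 0, 4, 1, 4, 0, 6, 4, 2, 0, 3, 6, 4, 6]
  | .a1 => [0]
  | .a2 => [2, 0, 3]
  | .a3 => [2, 2, 0, 3, 3]
  | .a4 => [3, 3, 0, 2, 2]
  | .c1 => [4]
  | .c2 => [1, 4, 0]
  | .c3 => [3, 4, 2]
  | .c4 => [2, 4, 3]
  | .c5 => [5, 1, 5, 0, 4, 1, 4, 0]
  | .u => [0, 0]
  | .x23 => [6]
  | .x24 => [7]
  | .x25 => [2, 2, 1, 3, 1, 2, 2, 5, 0, 4, 1, 5, 6, 5, 2, 2, 1, 4, 2]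
  | .x29 => [0, 2, 1, 2, 2, 1, 2, 2, 5, 0, 4, 2, 4, 3, 6, 4, 3, 3, 6, 4, 2, 4]
  | .x47 => [5, 7, 1, 5, 1, 2, 5, 7]
  | .x96 => [2, 6]
  | .x129 => [7, 3]
  | .x162 => [1, 3, 1, 2, 5, 3, 0, 5, 2, 0]
  | .x163 => [3, 3, 0, 4, 1, 2, 4, 2]
  | .x164 => [1, 3, 1, 4, 0, 2, 0]
  | .x165 => [3, 1, 2, 4, 3, 0, 2]
  | .x166 => [2, 2, 1, 3, 4, 2, 0, 4, 3, 3, 5]
  | .x167 => [1, 1, 1]
  | .x168 => [2, 1, 3, 1, 1]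
  | .x169 => [0, 2, 2, 0, 3, 3, 1]
  | .x364 => [1, 6, 3, 5, 1, 2, 5, 7, 2, 5, 3, 1, 5, 0, 3, 0, 2, 0, 3]
  | .x365 => [0, 3, 3, 1, 4, 2, 5, 2, 1, 5, 5, 6, 4, 0, 4, 1, 4, 3, 7]
  | .x366 => [2, 0, 3, 1, 3, 3, 1, 3, 4, 2, 2, 4, 2, 6, 4, 3, 3, 6, 4, 2, 4]
  | .x367 => [5, 3, 5, 7, 2, 2, 5, 7, 3, 5, 3, 3, 5, 2, 0, 2, 2, 0, 2, 1, 3]
  | .x368 => [1, 5, 7, 0, 5, 3, 0, 5, 7, 1, 5, 0, 4, 3, 3, 5, 3, 1, 3, 3]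
  | .x369 => [1, 5, 7, 2, 1, 3, 5, 7, 2, 1, 3, 5, 3, 0, 3, 3, 0, 3]
  | .x370 => [7, 0, 4, 2, 4, 1, 5, 7, 0, 3, 1, 4, 1, 3, 3, 1, 2, 1]
  | .x371 => [5, 1, 4, 2, 5, 7, 4, 1, 4, 0, 4, 3, 1, 3, 1, 2]

/-- A letter in the free group on five generators. -/
def fl5 (x : ℕ) : FreeGroup (Fin 5) := lv (fun i => FreeGroup.of (Fin.ofNat 5 i)) x

theorem extra_eq : Ly.extra.map (FreeGroup.lift fun g => prodw fl5 (genWord g)) = words.map (prodw fl5) := by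
  decide +kernel

theorem genWord_lt : ∀ g : Ly.Gen, (genWord g).all (fun x => Nat.blt x 10) = true := by
  intro g; cases g <;> decide

end CfsgLib.LyG2.Rep
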