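import Cfsg.Agent.LyG2.Rep.Check
import Cfsg.Agent.LyG2.Rep.Subst
import Mathlib.LinearAlgebra.Matrix.GeneralLinearGroup.Defs

/-! The representation of `Ly` of degree 111 over the field with five elements. -/

set_option autoImplicit false
set_option maxRecDepth 100000

namespace CfsgLib.LyG2.Rep

open CfsgLib.CosetEnum Cfsg.Spor
open scoped MatrixGroups

/-- The words that make the tables units. -/
def pairWords : List (List ℕ) :=
  (List.range 5).flatMap fun i => [[2 * i, 2 * i + 1], [2 * i + 1, 2 * i]]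

theorem pairs_ok : chkWords 111 tabs pairWords = true := by decide +kernel

theorem pairs_lt10 : pairWords.all (fun w => w.all fun x => Nat.blt x 10) = true := by decide +kernel

/-- The matrix of a letter. -/
def mat (x : ℕ) : Matrix (Fin 111) (Fin 111) (ZMod 5) := toX 111 (tabs x)

theorem good_of_lt {x : ℕ} (hx : x < 10) : goodX 111 (tabs x) = true :=
  List.all_eq_true.1 tabs_good x (List.mem_range.2 hx)

theorem word_one {ws : List (List ℕ)} (hc : chkWords 111 tabs ws = true)
    (hl : ws.all (fun w => w.all fun x => Nat.blt x 10) = true) {w : List ℕ} (hm : w ∈ ws) :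
    (w.map mat).prod = 1 :=
  chk_word (by norm_num) tabs one_ok (fun x hx => good_of_lt
    (Nat.le_of_ble_eq_true (List.all_eq_true.1 (List.all_eq_true.1 hl w hm) x hx))) hc hm

theorem mat_inv (i : Fin 5) :
    mat (2 * i.val) * mat (2 * i.val + 1) = 1 ∧ mat (2 * i.val + 1) * mat (2 * i.val) = 1 := by
  have h := fun w hw => word_one pairs_ok pairs_lt10 (w := w)
    (List.mem_flatMap.2 ⟨i.val, List.mem_range.2 i.isLt, hw⟩)
  have h1 := h [2 * i.val, 2 * i.val + 1] (by simp)
  have h2 := h [2 * i.val + 1, 2 * i.val] (by simp)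
  simp only [List.map_cons, List.map_nil, List.prod_cons, List.prod_nil, mul_one] at h1 h2
  exact ⟨h1, h2⟩

/-- A generator as an invertible matrix. -/
def unitOf (i : Fin 5) : GL (Fin 111) (ZMod 5) :=
  ⟨mat (2 * i.val), mat (2 * i.val + 1), (mat_inv i).1, (mat_inv i).2⟩

/-- A letter as an invertible matrix. -/
def letter (x : ℕ) : GL (Fin 111) (ZMod 5) := lv (fun i => unitOf (Fin.ofNat 5 i)) x

theorem coe_letter {x : ℕ} (hx : x < 10) : (letter x : Matrix (Fin 111) (Fin 111) (ZMod 5)) = mat x := by
  rcases Nat.even_or_odd' x with ⟨i, rfl | rfl⟩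
  · rw [letter, lv_eq, if_pos (by omega), show 2 * i / 2 = i by omega]
    show mat (2 * (Fin.ofNat 5 i).val) = _
    rw [Fin.val_ofNat, Nat.mod_eq_of_lt (by omega)]
  · rw [letter, lv_eq, if_neg (by omega), show (2 * i + 1) / 2 = i by omega]
    show mat (2 * (Fin.ofNat 5 i).val + 1) = _
    rw [Fin.val_ofNat, Nat.mod_eq_of_lt (by omega)]

/-- The image of a generator of `Ly`. -/
def image (g : Ly.Gen) : GL (Fin 111) (ZMod 5) := prodw letter (genWord g)

theorem coe_prodw {w : List ℕ} (h : ∀ x ∈ w, x < 10) :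
    ((prodw letter w : GL (Fin 111) (ZMod 5)) : Matrix (Fin 111) (Fin 111) (ZMod 5)) =
      (w.map mat).prod := by
  rw [prodw, ← Units.coeHom_apply, map_list_prod, List.map_map]
  congr 1
  exact List.map_congr_left fun x hx => coe_letter (h x hx)

theorem words_one {w : List ℕ} (hm : w ∈ words) : prodw letter w = 1 := by
  refine Units.ext ?_
  rw [coe_prodw fun x hx =>
    Nat.le_of_ble_eq_true (List.all_eq_true.1 (List.all_eq_true.1 words_lt w hm) x hx)]
  exact word_one words_ok words_lt hm

theorem lift_prodw (w : List ℕ) :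
    FreeGroup.lift unitOf (prodw fl5 w) = prodw letter w := by
  simp only [prodw, map_list_prod, List.map_map]
  congr 1
  refine List.map_congr_left fun x _ => ?_
  show FreeGroup.lift unitOf (fl5 x) = letter x
  rw [fl5, map_lv, letter]
  simp only [FreeGroup.lift_apply_of]

theorem rels_ok : ∀ r ∈ coxRelators Ly.edges ∪ {r | r ∈ Ly.extra}, FreeGroup.lift image r = 1 := by
  rintro r (⟨p, ha, q, -, rfl⟩ | hr)
  · exact absurd ha (by simp [Ly.edges, coxNodes])
  · have hm : FreeGroup.lift (fun g => prodw fl5 (genWord g)) r ∈ words.map (prodw fl5) := by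
      rw [← extra_eq]
      exact List.mem_map_of_mem hr
    obtain ⟨w, hw, e⟩ := List.mem_map.1 hm
    have hc : FreeGroup.lift image = (FreeGroup.lift unitOf).comp
        (FreeGroup.lift fun g => prodw fl5 (genWord g)) := by
      refine FreeGroup.ext_hom _ _ fun g => ?_
      simp only [MonoidHom.comp_apply, FreeGroup.lift_apply_of, lift_prodw]
      rfl
    rw [hc, MonoidHom.comp_apply, ← e, lift_prodw, words_one hw]

/-- The representation. -/
def hom : Cfsg.Spor.Ly →* GL (Fin 111) (ZMod 5) := PresentedGroup.toGroup rels_ok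

theorem mat_a : mat 0 0 0 ≠ 1 := by decide +kernel

/-- The generator `a` is not trivial in `Ly`. -/
theorem a_ne_one : (PresentedGroup.of Ly.Gen.a : Cfsg.Spor.Ly) ≠ 1 := by
  intro h
  have h1 := congrArg hom h
  rw [hom, PresentedGroup.toGroup.of, map_one] at h1
  have h2 : ((prodw letter (genWord .a) : GL (Fin 111) (ZMod 5)) : Matrix (Fin 111) (Fin 111) (ZMod 5)) 0 0 =
      ((1 : GL (Fin 111) (ZMod 5)) : Matrix (Fin 111) (Fin 111) (ZMod 5)) 0 0 :=
    congrArg (fun u : GL (Fin 111) (ZMod 5) => (u : Matrix (Fin 111) (Fin 111) (ZMod 5)) 0 0) h1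
  rw [coe_prodw (by decide)] at h2
  simp only [genWord, List.map_cons, List.map_nil, List.prod_cons, List.prod_nil, mul_one, Units.val_one,
    Matrix.one_apply_eq] at h2
  exact mat_a h2

end CfsgLib.LyG2.Rep
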