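import Cfsg.Agent.LyG2.Rep.Tab0
import Cfsg.Agent.LyG2.Rep.Tab1
import Cfsg.Agent.LyG2.Rep.Tab2
import Cfsg.Agent.LyG2.Rep.Tab3
import Cfsg.Agent.LyG2.Rep.Tab4

set_option autoImplicit false

/-! The tables of the representation of degree 111. -/

namespace CfsgLib.LyG2.Rep

/-- The table of a letter. -/
def tabs : Nat → Nat
  | 0 => tab0
  | 1 => tab1
  | 2 => tab2
  | 3 => tab3
  | 4 => tab4
  | 5 => tab5
  | 6 => tab6
  | 7 => tab7
  | 8 => tab8
  | 9 => tab9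
  | _ => 0

end CfsgLib.LyG2.Rep
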