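import Cfsg.Agent.LyG2.Packed
import Cfsg.Agent.LyG2.Rep.Tabs
import Cfsg.Agent.LyG2.Rep.Words

/-! The relators of `Ly` hold in the representation of degree 111. -/

set_option autoImplicit false

namespace CfsgLib.LyG2.Rep

theorem tabs_good : (List.range 10).all (fun x => goodX 111 (tabs x)) = true := by decide +kernel

theorem one_ok : oneOk 111 = true := by decide +kernel

theorem words_lt : words.all (fun w => w.all fun x => Nat.blt x 10) = true := by decide +kernel

set_option maxRecDepth 100000 in
theorem words_ok : chkWords 111 tabs words = true := by decide +kernel

end CfsgLib.LyG2.Rep
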